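import Cfsg.Agent.Lib.KnownSimple.MultM.Sz8L.Bound
import Cfsg.Agent.Lib.KnownSimple.MultM.Sz8L.NatD
import Cfsg.Agent.Lib.KnownSimple.MultC.GenP
import Cfsg.Agent.Lib.KnownSimple.MultC.SzP

/-!
# The natural representation
-/

set_option autoImplicit false

namespace Cfsg.Agent.Lib.KnownSimple.MultM.Sz8L

open Cfsg Cfsg.Spor Cfsg.Agent.Lib.Compute Cfsg.Agent.Lib.KnownSimple.PE Cfsg.Agent.Lib.KnownSimple.Leech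
open Cfsg.Agent.Lib.KnownSimple Cfsg.Agent.Lib.KnownSimple.AutRigid Cfsg.Agent.Lib.KnownSimple.Pres
open Cfsg.Agent.Lib.KnownSimple.MultC


open Cfsg.Agent.Lib.KnownSimple.MultC.MatN Cfsg.Agent.Lib.KnownSimple.MultC.GenP Matrix Cfsg.Agent.Lib.KnownSimple.MultC.SzP

abbrev d : ℕ := 3
abbrev N0 : ℕ := 65
theorem hP : IsPres d v (stdRels S) := isPres_std S (by decide +kernel)
/-- The table of the letters. -/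
noncomputable abbrev τN : ℕ → ℕ → ℕ := tauP d tn
set_option maxHeartbeats 0 in
set_option maxRecDepth 100000 in
theorem hCN : chkCoset τN d N0 = true := by decide +kernel
/-- The natural table. -/
noncomputable def CN : Coset d N0 := mkCoset τN hCN
set_option maxHeartbeats 0 in
theorem hok : ∀ r ∈ stdRels S, ∀ l ∈ r, l < 2 * d := words_of_chk (by decide +kernel)
set_option maxHeartbeats 0 in
set_option maxRecDepth 100000 in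
theorem hl0 : ∀ r ∈ stdRels S, ∀ i, i < N0 → actW CN.τ r i = i := loops_of_chk (by decide +kernel)
theorem ex0 : ∃ ρ : P →* Equiv.Perm (Fin N0), ∀ x, x < d → ρ (v x) = (CN.p x)⁻¹ := exists_rho hP CN hok hl0
/-- The natural representation. -/
noncomputable def ρ0 : P →* Equiv.Perm (Fin N0) := ex0.choose
theorem hρ0 : ∀ x, x < d → ρ0 (v x) = (CN.p x)⁻¹ := ex0.choose_spec
set_option maxRecDepth 100000 in
/-- The root elements. -/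
def RTL : List (List (List ℕ)) := [[[1,0,0,0],
  [0,1,0,0],
  [0,0,1,0],
  [0,0,0,1]],[[1,0,1,1],
  [0,1,0,1],
  [0,0,1,0],
  [0,0,0,1]],[[1,0,2,6],
  [0,1,0,2],
  [0,0,1,0],
  [0,0,0,1]],[[1,0,3,7],
  [0,1,0,3],
  [0,0,1,0],
  [0,0,0,1]],[[1,0,4,2],
  [0,1,0,4],
  [0,0,1,0],
  [0,0,0,1]],[[1,0,5,3],
  [0,1,0,5],
  [0,0,1,0],
  [0,0,0,1]],[[1,0,6,4],
  [0,1,0,6],
  [0,0,1,0],
  [0,0,0,1]],[[1,0,7,5],
  [0,1,0,7],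
  [0,0,1,0],
  [0,0,0,1]],[[1,1,1,1],
  [0,1,1,0],
  [0,0,1,1],
  [0,0,0,1]],[[1,1,0,1],
  [0,1,1,1],
  [0,0,1,1],
  [0,0,0,1]],[[1,1,3,5],
  [0,1,1,2],
  [0,0,1,1],
  [0,0,0,1]],[[1,1,2,5],
  [0,1,1,3],
  [0,0,1,1],
  [0,0,0,1]],[[1,1,5,7],
  [0,1,1,4],
  [0,0,1,1],
  [0,0,0,1]],[[1,1,4,7],
  [0,1,1,5],
  [0,0,1,1],
  [0,0,0,1]],[[1,1,7,3],
  [0,1,1,6],
  [0,0,1,1],
  [0,0,0,1]],[[1,1,6,3],
  [0,1,1,7],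
  [0,0,1,1],
  [0,0,0,1]],[[1,2,7,5],
  [0,1,6,0],
  [0,0,1,2],
  [0,0,0,1]],[[1,2,6,6],
  [0,1,6,1],
  [0,0,1,2],
  [0,0,0,1]],[[1,2,5,7],
  [0,1,6,2],
  [0,0,1,2],
  [0,0,0,1]],[[1,2,4,4],
  [0,1,6,3],
  [0,0,1,2],
  [0,0,0,1]],[[1,2,3,4],
  [0,1,6,4],
  [0,0,1,2],
  [0,0,0,1]],[[1,2,2,7],
  [0,1,6,5],
  [0,0,1,2],
  [0,0,0,1]],[[1,2,1,6],
  [0,1,6,6],
  [0,0,1,2],
  [0,0,0,1]],[[1,2,0,5],
  [0,1,6,7],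
  [0,0,1,2],
  [0,0,0,1]],[[1,3,2,6],
  [0,1,7,0],
  [0,0,1,3],
  [0,0,0,1]],[[1,3,3,4],
  [0,1,7,1],
  [0,0,1,3],
  [0,0,0,1]],[[1,3,0,6],
  [0,1,7,2],
  [0,0,1,3],
  [0,0,0,1]],[[1,3,1,4],
  [0,1,7,3],
  [0,0,1,3],
  [0,0,0,1]],[[1,3,6,3],
  [0,1,7,4],
  [0,0,1,3],
  [0,0,0,1]],[[1,3,7,1],
  [0,1,7,5],
  [0,0,1,3],
  [0,0,0,1]],[[1,3,4,3],
  [0,1,7,6],
  [0,0,1,3],
  [0,0,0,1]],[[1,3,5,1],
  [0,1,7,7],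
  [0,0,1,3],
  [0,0,0,1]],[[1,4,3,7],
  [0,1,2,0],
  [0,0,1,4],
  [0,0,0,1]],[[1,4,2,2],
  [0,1,2,1],
  [0,0,1,4],
  [0,0,0,1]],[[1,4,1,2],
  [0,1,2,2],
  [0,0,1,4],
  [0,0,0,1]],[[1,4,0,7],
  [0,1,2,3],
  [0,0,1,4],
  [0,0,0,1]],[[1,4,7,3],
  [0,1,2,4],
  [0,0,1,4],
  [0,0,0,1]],[[1,4,6,6],
  [0,1,2,5],
  [0,0,1,4],
  [0,0,0,1]],[[1,4,5,6],
  [0,1,2,6],
  [0,0,1,4],
  [0,0,0,1]],[[1,4,4,3],
  [0,1,2,7],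
  [0,0,1,4],
  [0,0,0,1]],[[1,5,4,2],
  [0,1,3,0],
  [0,0,1,5],
  [0,0,0,1]],[[1,5,5,6],
  [0,1,3,1],
  [0,0,1,5],
  [0,0,0,1]],[[1,5,6,5],
  [0,1,3,2],
  [0,0,1,5],
  [0,0,0,1]],[[1,5,7,1],
  [0,1,3,3],
  [0,0,1,5],
  [0,0,0,1]],[[1,5,0,2],
  [0,1,3,4],
  [0,0,1,5],
  [0,0,0,1]],[[1,5,1,6],
  [0,1,3,5],
  [0,0,1,5],
  [0,0,0,1]],[[1,5,2,5],
  [0,1,3,6],
  [0,0,1,5],
  [0,0,0,1]],[[1,5,3,1],
  [0,1,3,7],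
  [0,0,1,5],
  [0,0,0,1]],[[1,6,5,3],
  [0,1,4,0],
  [0,0,1,6],
  [0,0,0,1]],[[1,6,4,4],
  [0,1,4,1],
  [0,0,1,6],
  [0,0,0,1]],[[1,6,7,2],
  [0,1,4,2],
  [0,0,1,6],
  [0,0,0,1]],[[1,6,6,5],
  [0,1,4,3],
  [0,0,1,6],
  [0,0,0,1]],[[1,6,1,4],
  [0,1,4,4],
  [0,0,1,6],
  [0,0,0,1]],[[1,6,0,3],
  [0,1,4,5],
  [0,0,1,6],
  [0,0,0,1]],[[1,6,3,5],
  [0,1,4,6],
  [0,0,1,6],
  [0,0,0,1]],[[1,6,2,2],
  [0,1,4,7],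
  [0,0,1,6],
  [0,0,0,1]],[[1,7,6,4],
  [0,1,5,0],
  [0,0,1,7],
  [0,0,0,1]],[[1,7,7,2],
  [0,1,5,1],
  [0,0,1,7],
  [0,0,0,1]],[[1,7,4,7],
  [0,1,5,2],
  [0,0,1,7],
  [0,0,0,1]],[[1,7,5,1],
  [0,1,5,3],
  [0,0,1,7],
  [0,0,0,1]],[[1,7,2,7],
  [0,1,5,4],
  [0,0,1,7],
  [0,0,0,1]],[[1,7,3,1],
  [0,1,5,5],
  [0,0,1,7],
  [0,0,0,1]],[[1,7,0,4],
  [0,1,5,6],
  [0,0,1,7],
  [0,0,0,1]],[[1,7,1,2],
  [0,1,5,7],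
  [0,0,1,7],
  [0,0,0,1]],[[1,0,0,0],
  [0,1,0,0],
  [0,0,1,0],
  [0,0,0,1]],[[1,0,0,0],
  [0,1,0,0],
  [0,0,1,0],
  [0,0,0,1]],[[7,0,0,0],
  [0,2,0,0],
  [0,0,5,0],
  [0,0,0,4]],[[2,0,0,0],
  [0,3,0,0],
  [0,0,6,0],
  [0,0,0,5]],[[3,0,0,0],
  [0,4,0,0],
  [0,0,7,0],
  [0,0,0,6]],[[4,0,0,0],
  [0,5,0,0],
  [0,0,2,0],
  [0,0,0,7]],[[5,0,0,0],
  [0,6,0,0],
  [0,0,3,0],
  [0,0,0,2]],[[6,0,0,0],
  [0,7,0,0],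
  [0,0,4,0],
  [0,0,0,3]],[[0,0,0,1],
  [0,0,1,0],
  [0,1,0,0],
  [1,0,0,0]]]
set_option maxRecDepth 100000 in
/-- The generators as matrices. -/
def TML : List (List (List ℕ)) := [[[1,4,4,3],
  [1,5,6,4],
  [4,7,5,4],
  [7,4,1,1]],[[2,4,6,3],
  [7,6,3,6],
  [5,6,6,4],
  [4,5,7,2]],[[1,4,3,7],
  [7,0,0,3],
  [0,5,0,4],
  [4,0,7,1]]]
set_option maxRecDepth 100000 in
/-- The generators as words in the root elements. -/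
def gWL : List (List ℕ) := [[36,72,13,72],
  [51,66,72,54],
  [3,66,72,3]]
set_option maxRecDepth 100000 in
/-- The root elements as words in the generators. -/
def uWL : List (List ℕ) := [[],
  [4,2,0,4,0,4,0,2,4],
  [2,4,2,4,0,2,0,2,0,4,0,4,0,4,0],
  [2,0,2,0,2,4,2,0,2,0,2],
  [0,2,4,2,4,2,0,4,2,4,0,4,0,2],
  [0,2,4,2,4,0,2,0,4,2,4,2,0],
  [2,4,0,4,2,0,2,4,0,4,2],
  [2,0,2,4,2,0,2,0,2,0,2,4,2,0,2],
  [2,0,4,0,4,2,0,2,4,2,0,4,2,4],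
  [4,2,0,4,2,4,2,0,4,2,4,2,0,4],
  [0,4,2,4,0,4,2,4,2,0,2],
  [2,0,2,4,2,4,0,4,2,4,0],
  [4,2,4,2,0,2,0,4,2,0,4,2,0],
  [2,4,0,4,0,4,0,2,4,0,2,4,2],
  [0,4,0,2,0,4,0,4,0,4,2,0],
  [0,2,4,0,4,0,4,0,2,0,4,0],
  [4,2,0,2,0,4,2,4,2,0,2,0,2,0],
  [4,2,4,0,2,4,0,2,0,2,4,0],
  [2,4,2,0,4,0,4,2,0,2,4,0],
  [4,0,2,0,4,2,0,2,4,0,4],
  [4,0,4,2,0,2,4,0,2,0,4],
  [0,4,2,0,2,4,0,4,0,2,4,2],
  [0,4,2,0,2,0,4,2,0,4,2,4],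
  [0,2,0,2,0,2,4,2,4,0,2,0,2,4],
  [0,2,0,4,0,2,4,2,4,2,4,2,0],
  [0,4,2,0,2,0,2,0,2,4,0,4,0,2],
  [0,2,4,2,4,2,4,2,0,4,0,2,0],
  [2,0,4,0,4,2,0,2,0,2,0,2,4,0],
  [0,2,0,4,0,2,4,0,4,2,4,0,4,0,2],
  [4,0,2,4,2,0,4,0,4,2,4,2,4],
  [2,0,4,0,4,2,4,0,4,2,0,4,0,2,0],
  [4,2,4,2,4,0,4,0,2,4,2,0,4],
  [4,0,4,0,2,0,4,2,4,0,4],
  [0,4,0,4,0,4,2,0,2,4,0,4,0,2,0],
  [0,2,0,4,0,4,2,0,2,4,0,4,0,4,0],
  [4,0,4,2,4,0,2,0,4,0,4],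
  [2,4,0,2,4,0,2,0,4,0,2,0,4],
  [0,2,0,2,0,4,0,2,4,2,4,0],
  [0,4,2,4,2,0,4,0,2,0,2,0],
  [4,0,2,0,4,0,2,0,4,2,0,4,2],
  [0,2,4,0,4,0,2,4,0,2,0,2,0,2],
  [2,0,2,4,2,4,0,2,0,4,0,2,0,2,0],
  [0,2,0,2,0,4,2,0,2,4,2,0,4,2],
  [2,0,4,2,0,4,0,2,0,4,0,2,0],
  [2,0,2,0,2,0,4,2,0,4,0,4,2,0],
  [0,2,0,2,0,4,0,2,0,4,2,4,2,0,2],
  [2,0,2,4,2,0,4,0,4,0,4,0,4,0],
  [2,4,0,4,0,4,0,4,2,0,4,0,2],
  [2,4,0,4,0,2,0,4,0,2,4,0,2,0],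
  [0,4,0,2,4,0,4,2,4,2,0,4],
  [4,2,4,2,4,0,2,0,4,2,0,4],
  [0,2,4,2,4,2,4,0,4,0,2,4,0,2],
  [4,0,2,4,2,4,0,4,2,0,4,0],
  [0,2,0,4,2,0,4,0,2,0,4,0,4,2],
  [0,4,2,0,2,4,0,2,4,2,0,4,0,2],
  [4,0,2,4,0,2,0,4,2,4,2,4],
  [2,0,2,0,4,2,4,0,2,4,0,2,4,0],
  [0,4,0,2,0,2,4,2,0,2,0,4,2],
  [4,2,0,4,0,2,4,2,4,2,0,4,0],
  [4,2,0,4,2,4,2,4,2,0,4,0],
  [0,4,0,2,4,2,4,2,0,4,0,2,4],
  [0,4,0,2,4,2,4,2,4,0,2,4],
  [0,2,4,0,4,2,0,2,4,2,4,0,4,2],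
  [2,4,0,2,0,2,4,2,0,2,0,4,0],
  [],
  [],
  [4,0,2,4,2,0,2,4,2,0,2,0,2,0,2,4],
  [0,4,0,4,0,4,0,4,0,2,0,4,2,4],
  [2,4,2,0,2,4,0,2,4,2,4,0,4,2],
  [4,0,4,2,0,2,0,2,4,0,2,0,2,0,2,4],
  [4,2,4,0,2,0,4,0,4,0,4,0,4,0],
  [2,4,0,4,2,4,2,0,4,2,0,2,4,2],
  [0,4,2,4,2,0,2,4,2,4,0]]
/-- The root elements, as a function. -/
noncomputable abbrev RTf : ℕ → List (List ℕ) := fun l => lg [] RTL l
/-- The words, as a function. -/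
noncomputable abbrev uWf : ℕ → List ℕ := fun l => lg [] uWL l
set_option maxHeartbeats 0 in
set_option maxRecDepth 100000 in
theorem hRT00 : ∀ (l : Fin 73) (a b : Fin 4),
    decide (rootN l.val a b = toM FC8 ord4 (RTf l.val) a b) = true := by decide +kernel
theorem hroot : ∀ l, l < 73 → Phi8 (rootZ l) = toM FC8 ord4 (RTf l) := by
  intro l hl
  rw [rootZ_val]
  ext a b
  exact of_decide_eq_true (hRT00 ⟨l, hl⟩ a b)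
set_option maxHeartbeats 0 in
set_option maxRecDepth 100000 in
theorem c1 : allBelow (fun l => shapeOK 4 (RTf l)) 73 = true := by decide +kernel
set_option maxHeartbeats 0 in
set_option maxRecDepth 100000 in
theorem c2 : allBelow (fun x => shapeOK 4 (lg [] TML x)) d = true := by decide +kernel
set_option maxHeartbeats 0 in
set_option maxRecDepth 100000 in
theorem c3 : allBelow (fun x => (lg [] gWL x).all fun l => Nat.blt l 73) d = true := by decide +kernel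
set_option maxHeartbeats 0 in
set_option maxRecDepth 100000 in
theorem c4 : allBelow (fun x => allBelow (fun j => Nat.beq (actN FC8.add FC8.mul FC8.b RTf (lg [] gWL x) (FC8.b ^ j)) (colC FC8.b (lg [] TML x) j))
      4) d = true := by decide +kernel
set_option maxHeartbeats 0 in
set_option maxRecDepth 100000 in
theorem c5 : allBelow (fun x => allBelow (fun j => Nat.beq (actN FC8.add FC8.mul FC8.b (fun l => lg [] TML (l / 2)) [2 * x, 2 * x] (FC8.b ^ j)) (FC8.b ^ j))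
      4) d = true := by decide +kernel
set_option maxHeartbeats 0 in
set_option maxRecDepth 100000 in
theorem c6 : (stdRels S).all (fun r => allBelow (fun j => Nat.beq (actN FC8.add FC8.mul FC8.b (fun l => lg [] TML (l / 2)) r (FC8.b ^ j)) (FC8.b ^ j))
      4) = true := by decide +kernel
set_option maxHeartbeats 0 in
set_option maxRecDepth 100000 in
theorem c7w : allBelow (fun l => (uWf l).all fun a => Nat.blt a (2 * d)) 73 = true := by decide +kernel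
set_option maxHeartbeats 0 in
set_option maxRecDepth 100000 in
theorem c7 : allBelow (fun l => allBelow (fun j => Nat.beq (actN FC8.add FC8.mul FC8.b (fun l => lg [] TML (l / 2)) (uWf l) (FC8.b ^ j)) (colC FC8.b (RTf l) j))
      4) 73 = true := by decide +kernel
theorem hle : Nat.card P ≤ Nat.card Sz8 := by
  rw [card_Sz8]
  exact finite_P.2
theorem ex_e : ∃ e : P ≃* Sz8, ∀ x, x < d →
      Phi8 (e (v x)) = toM FC8 ord4 (lg [] TML x) :=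
  exists_equiv_gen FC8 ord4 ord4_lt ord4_inj ord4_sum Phi8 Phi8_inj rootZ 73 rootZ_gen hP RTf TML gWL uWf hroot c1 c2 c3 c4 c5 hok c6 c7w c7 hle
/-- The isomorphism. -/
noncomputable def e : P ≃* Sz8 := ex_e.choose
theorem card_P : Nat.card P = 29120 := by
  rw [Nat.card_congr e.toEquiv, card_Sz8]

theorem hρ0inj : Function.Injective ρ0 := by
  have hk := IsSimpleGroup.eq_bot_or_eq_top_of_normal (H := (ρ0.comp e.symm.toMonoidHom).ker) inferInstance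
  rcases hk with h | h
  · have h1 : Function.Injective (ρ0.comp e.symm.toMonoidHom) := (MonoidHom.ker_eq_bot_iff _).1 h
    intro a b hab
    have h2 := h1 (a₁ := e a) (a₂ := e b) (by
      show ρ0 (e.symm (e a)) = ρ0 (e.symm (e b))
      rw [e.symm_apply_apply, e.symm_apply_apply]
      exact hab)
    exact e.injective h2
  · exfalso
    have hm : e (v 0) ∈ (ρ0.comp e.symm.toMonoidHom).ker := by
      rw [h]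
      trivial
    have h1 : ρ0 (v 0) = 1 := by simpa [MonoidHom.mem_ker] using hm
    rw [hρ0 0 (by decide)] at h1
    have h2 : CN.p 0 = 1 := by simpa using h1
    have h3 : allBelow (fun i => Nat.beq (CN.τ 0 i) i) N0 = false := by decide +kernel
    have h4 : allBelow (fun i => Nat.beq (CN.τ 0 i) i) N0 = true := by
      rw [allBelow_iff]
      intro i hi
      have h5 := Coset.p_val CN (x := 0) (by decide) (i := ⟨i, hi⟩)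
      rw [h2] at h5
      have h6 : i = CN.τ (2 * 0) i := h5
      show Nat.beq (CN.τ 0 i) i = true
      rw [show CN.τ 0 i = i from h6.symm]
      exact Nat.beq_refl i
    rw [h3] at h4
    exact Bool.noConfusion h4

end Cfsg.Agent.Lib.KnownSimple.MultM.Sz8L
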